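import Mathlib

/-!
# Finite presentation from lifting maps to directed colimits
-/

set_option autoImplicit false

universe u

open CategoryTheory CategoryTheory.Limits

namespace Groth.Agent.LfpCrit

/-- Every map over `R` from `S` to a directed colimit lifts to a stage. -/
def Lifts {R S : CommRingCat.{u}} (f : R ⟶ S) : Prop :=
  ∀ (J : Type u) [Preorder J] [IsDirected J (· ≤ ·)] [Nonempty J] (F : J ⥤ CommRingCat.{u})
    (α : (Functor.const J).obj R ⟶ F) (c : Cocone F), IsColimit c →
    ∀ g : S ⟶ c.pt, (∀ j, f ≫ g = α.app j ≫ c.ι.app j) →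
      ∃ (j : J) (g' : S ⟶ F.obj j), f ≫ g' = α.app j ∧ g' ≫ c.ι.app j = g

/-- A directed cocone of rings that is a colimit on underlying sets. -/
noncomputable def isColimitOfElements {J : Type u} [Preorder J] [IsDirected J (· ≤ ·)] [Nonempty J]
    {F : J ⥤ CommRingCat.{u}} (c : Cocone F) (hs : ∀ x : c.pt, ∃ j y, c.ι.app j y = x)
    (hi : ∀ j (x y : F.obj j), c.ι.app j x = c.ι.app j y → ∃ (k : J) (h : j ⟶ k), F.map h x = F.map h y) :
    IsColimit c :=
  haveI : ReflectsColimitsOfShape J (forget CommRingCat.{u}) :=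
    reflectsColimitsOfShape_of_reflectsIsomorphisms
  isColimitOfReflects (forget CommRingCat.{u}) <| Types.FilteredColimit.isColimitOf _ _
    (fun x => by
      obtain ⟨j, y, hy⟩ := hs x
      exact ⟨j, y, hy.symm⟩)
    (fun i j xi xj e => by
      obtain ⟨k, hik, hjk⟩ := exists_ge_ge i j
      have e' : c.ι.app k (F.map (homOfLE hik) xi) = c.ι.app k (F.map (homOfLE hjk) xj) := by
        have h1 := congr($(c.w (homOfLE hik)).hom xi)
        have h2 := congr($(c.w (homOfLE hjk)).hom xj)
        exact h1.trans (e.trans h2.symm)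
      obtain ⟨l, hkl, hl⟩ := hi k _ _ e'
      refine ⟨l, homOfLE hik ≫ hkl, homOfLE hjk ≫ hkl, ?_⟩
      show F.map (homOfLE hik ≫ hkl) xi = F.map (homOfLE hjk ≫ hkl) xj
      rw [Functor.map_comp, Functor.map_comp]
      exact hl)

variable {A B : Type u} [CommRing A] [CommRing B] [Algebra A B]

theorem finiteType_of_lifts (h : Lifts (CommRingCat.ofHom (algebraMap A B))) : Algebra.FiniteType A B := by
  classical
  let S : Finset B → Subalgebra A B := fun s => Algebra.adjoin A (s : Set B)
  have hS : ∀ {s t : Finset B}, s ≤ t → S s ≤ S t := fun hst => Algebra.adjoin_mono (Finset.coe_subset.2 hst)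
  let F : Finset B ⥤ CommRingCat.{u} :=
    { obj := fun s => CommRingCat.of (S s)
      map := fun f => CommRingCat.ofHom (Subalgebra.inclusion (hS (leOfHom f))).toRingHom
      map_id := fun _ => rfl
      map_comp := fun _ _ => rfl }
  let α : (Functor.const _).obj (CommRingCat.of A) ⟶ F :=
    { app := fun s => CommRingCat.ofHom (algebraMap A (S s))
      naturality := fun _ _ _ => rfl }
  let c : Cocone F :=
    { pt := CommRingCat.of B
      ι := { app := fun s => CommRingCat.ofHom (S s).val.toRingHom
             naturality := fun _ _ _ => rfl } }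
  have hc : IsColimit c := isColimitOfElements c
    (fun x => ⟨{x}, ⟨x, Algebra.subset_adjoin (by simp)⟩, rfl⟩)
    (fun j x y e => ⟨j, 𝟙 j, by rw [show x = y from Subtype.ext e]⟩)
  obtain ⟨s, g', -, hg'⟩ := h (Finset B) F α c hc (𝟙 _) (fun j => rfl)
  refine ⟨⟨s, eq_top_iff.2 fun b _ => ?_⟩⟩
  have := congr($(hg').hom b)
  change (g'.hom b : B) = b at this
  rw [← this]
  exact (g'.hom b).2

theorem finitePresentation_of_lifts (h : Lifts (CommRingCat.ofHom (algebraMap A B))) :
    Algebra.FinitePresentation A B := by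
  classical
  haveI := finiteType_of_lifts h
  obtain ⟨n, π, hπ⟩ := Algebra.FiniteType.iff_quotient_mvPolynomial''.1 ‹Algebra.FiniteType A B›
  let P := MvPolynomial (Fin n) A
  let T := {s : Finset P // ∀ x ∈ s, π x = 0}
  haveI : Nonempty T := ⟨⟨∅, by simp⟩⟩
  haveI : IsDirected T (· ≤ ·) := ⟨fun a b => ⟨⟨a.1 ∪ b.1, fun x hx => (Finset.mem_union.1 hx).elim (a.2 x) (b.2 x)⟩,
    Finset.subset_union_left, Finset.subset_union_right⟩⟩
  let I : T → Ideal P := fun t => Ideal.span (t.1 : Set P)
  have hI : ∀ {s t : T}, s ≤ t → I s ≤ I t := fun hst => Ideal.span_mono (Finset.coe_subset.2 hst)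
  have hker : ∀ t : T, ∀ x ∈ I t, π x = 0 := fun t =>
    fun x hx => (Ideal.span_le (I := RingHom.ker π.toRingHom)).2 (fun y hy => t.2 y hy) hx
  let F : T ⥤ CommRingCat.{u} :=
    { obj := fun t => CommRingCat.of (P ⧸ I t)
      map := fun f => CommRingCat.ofHom (Ideal.Quotient.factor (hI (leOfHom f)))
      map_id := fun t => by ext x <;> rfl
      map_comp := fun _ _ => by ext x <;> rfl }
  let α : (Functor.const _).obj (CommRingCat.of A) ⟶ F :=
    { app := fun t => CommRingCat.ofHom (algebraMap A (P ⧸ I t))
      naturality := fun _ _ _ => by ext x; rfl }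
  let c : Cocone F :=
    { pt := CommRingCat.of B
      ι := { app := fun t => CommRingCat.ofHom (Ideal.Quotient.liftₐ (I t) π (hker t)).toRingHom
             naturality := fun _ _ _ => by ext x <;> rfl } }
  have hc : IsColimit c := isColimitOfElements c
    (fun x => by
      obtain ⟨y, rfl⟩ := hπ x
      exact ⟨⟨∅, by simp⟩, Ideal.Quotient.mk _ y, rfl⟩)
    (fun j x y e => by
      obtain ⟨x, rfl⟩ := Ideal.Quotient.mk_surjective x
      obtain ⟨y, rfl⟩ := Ideal.Quotient.mk_surjective y
      have e' : π x = π y := e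
      refine ⟨⟨insert (x - y) j.1, fun z hz => ?_⟩, homOfLE (Finset.subset_insert _ _), ?_⟩
      · rcases Finset.mem_insert.1 hz with rfl | hz
        · rw [map_sub, e', sub_self]
        · exact j.2 z hz
      · show Ideal.Quotient.mk _ x = Ideal.Quotient.mk _ y
        exact Ideal.Quotient.eq.2 (Ideal.subset_span (Finset.mem_insert_self _ _)))
  obtain ⟨t, g', hA, hg'⟩ := h T F α c hc (𝟙 _) (fun j => by ext a; exact (π.commutes a).symm)
  let σ : B →ₐ[A] P ⧸ I t := { g'.hom with commutes' := fun a => congr($(hA).hom a) }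
  have hσ : ∀ b, Ideal.Quotient.liftₐ (I t) π (hker t) (σ b) = b := fun b => congr($(hg').hom b)
  choose r hr using fun i => Ideal.Quotient.mk_surjective (σ (π (MvPolynomial.X i)))
  refine Algebra.FinitePresentation.of_surjective hπ ⟨t.1 ∪ Finset.univ.image (fun i => MvPolynomial.X i - r i), ?_⟩
  set K := Ideal.span ((t.1 ∪ Finset.univ.image (fun i => MvPolynomial.X i - r i) : Finset P) : Set P) with hK
  have htK : I t ≤ K := Ideal.span_mono (by simp)
  refine le_antisymm (Ideal.span_le.2 fun x hx => ?_) fun x hx => ?_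
  · rcases Finset.mem_union.1 hx with hx | hx
    · exact t.2 x hx
    · obtain ⟨i, -, rfl⟩ := Finset.mem_image.1 hx
      show π (_ - _) = 0
      have := hσ (π (MvPolynomial.X i))
      rw [← hr i] at this
      change π (r i) = _ at this
      rw [map_sub, this, sub_self]
  · have hφ : (Ideal.Quotient.mkₐ A K) = (Ideal.Quotient.factorₐ A htK).comp (σ.comp π) := by
      refine MvPolynomial.algHom_ext fun i => ?_
      show Ideal.Quotient.mk K (MvPolynomial.X i) = Ideal.Quotient.factor htK (σ (π (MvPolynomial.X i)))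
      rw [← hr i, Ideal.Quotient.factor_mk, Ideal.Quotient.eq, hK]
      exact Ideal.subset_span (Finset.mem_union_right _ (Finset.mem_image_of_mem _ (Finset.mem_univ i)))
    refine Ideal.Quotient.eq_zero_iff_mem.1 ?_
    rw [← Ideal.Quotient.mkₐ_eq_mk (R₁ := A), hφ, AlgHom.comp_apply, AlgHom.comp_apply,
      show π x = 0 from hx, map_zero, map_zero]

theorem hom_finitePresentation_of_lifts {R S : CommRingCat.{u}} (f : R ⟶ S) (h : Lifts f) :
    f.hom.FinitePresentation := by
  let := f.hom.toAlgebra
  exact finitePresentation_of_lifts (A := R) (B := S) h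

/-- Preservation of directed colimits by the corepresentable functor gives lifting. -/
theorem lifts_of_preservesColimit {R S : CommRingCat.{u}} (f : R ⟶ S)
    (h : ∀ (J : Type u) [Preorder J] [IsDirected J (· ≤ ·)] [Nonempty J] (F : J ⥤ Under R),
      PreservesColimit F (coyoneda.obj (Opposite.op (Under.mk f)))) : Lifts f := by
  intro J _ _ _ F α c hc g hg
  let F' : J ⥤ Under R :=
    { obj := fun j => Under.mk (α.app j)
      map := fun {i j} a => Under.homMk (F.map a) (by simpa using (α.naturality a).symm)
      map_id := fun j => by ext; simp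
      map_comp := fun a b => by ext; simp }
  let c' : Cocone F' :=
    { pt := Under.mk (f ≫ g)
      ι := { app := fun j => Under.homMk (c.ι.app j) (hg j).symm
             naturality := fun i j a => by ext; simp [F'] } }
  obtain ⟨j₀⟩ := ‹Nonempty J›
  have hc' : IsColimit c' :=
    { desc := fun d => Under.homMk (hc.desc ((Under.forget R).mapCocone d)) (by
        show (f ≫ g) ≫ _ = d.pt.hom
        rw [hg j₀, Category.assoc]
        erw [hc.fac]
        exact Under.w (d.ι.app j₀))
      fac := fun d j => by ext1; exact hc.fac ((Under.forget R).mapCocone d) j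
      uniq := fun d m hm => by
        ext1
        exact hc.uniq ((Under.forget R).mapCocone d) m.right fun j => congrArg CommaMorphism.right (hm j) }
  haveI := h J F'
  obtain ⟨j, x, hx⟩ := Types.jointly_surjective_of_isColimit
    (isColimitOfPreserves (coyoneda.obj (Opposite.op (Under.mk f))) hc') (Under.homMk g rfl)
  exact ⟨j, x.right, Under.w x, congrArg CommaMorphism.right hx⟩

end Groth.Agent.LfpCrit
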