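import Groth.Agent.LfpCrit.Algebra
import Mathlib

/-!
# Local finite presentation from lifting maps to limits of affine schemes
-/

set_option autoImplicit false

universe u

open CategoryTheory CategoryTheory.Limits AlgebraicGeometry Opposite

namespace Groth.Agent.LfpCrit

/-- In a directed colimit of rings, an open containing the image of the limit contains a stage. -/
theorem exists_stage_range_subset {J : Type u} [Preorder J] [IsDirected J (· ≤ ·)] [Nonempty J]
    {F : J ⥤ CommRingCat.{u}} {c : Cocone F} (hc : IsColimit c) (j : J) (W : (Spec (F.obj j)).Opens)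
    (h : ∀ p, Spec.map (c.ι.app j) p ∈ W) :
    ∃ (k : J) (a : j ⟶ k), ∀ p, Spec.map (F.map a) p ∈ W := by
  classical
  let I : Ideal (F.obj j) := PrimeSpectrum.vanishingIdeal W.carrierᶜ
  have hI : ∀ q : PrimeSpectrum (F.obj j), q ∉ W.carrier ↔ I ≤ q.asIdeal := fun q => by
    have := PrimeSpectrum.zeroLocus_vanishingIdeal_eq_closure W.carrierᶜ
    rw [(show IsClosed (W.carrierᶜ : Set (PrimeSpectrum (F.obj j))) from isClosed_compl_iff.2 W.isOpen).closure_eq] at this
    exact (Set.ext_iff.1 this q).symm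
  have htop : I.map (c.ι.app j).hom = ⊤ := by
    by_contra hne
    obtain ⟨m, hm, hle⟩ := Ideal.exists_le_maximal _ hne
    let q : PrimeSpectrum c.pt := ⟨m, hm.isPrime⟩
    exact (hI (PrimeSpectrum.comap (c.ι.app j).hom q)).2 (Ideal.map_le_iff_le_comap.1 hle) (h q)
  have hc' := isColimitOfPreserves (forget CommRingCat.{u}) hc
  have key : ∀ b ∈ I.map (c.ι.app j).hom, ∃ (M : J) (m : j ⟶ M), ∃ e ∈ I.map (F.map m).hom, c.ι.app M e = b := by
    intro b hb
    rw [Ideal.map] at hb
    induction hb using Submodule.span_induction with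
    | mem b hb =>
      obtain ⟨y, hy, rfl⟩ := hb
      exact ⟨j, 𝟙 j, F.map (𝟙 j) y, Ideal.mem_map_of_mem _ hy, by rw [F.map_id]; rfl⟩
    | zero => exact ⟨j, 𝟙 j, 0, zero_mem _, map_zero _⟩
    | add b b' _ _ hb hb' =>
      obtain ⟨M, m, e, he, rfl⟩ := hb
      obtain ⟨M', m', e', he', rfl⟩ := hb'
      obtain ⟨N, hN, hN'⟩ := exists_ge_ge M M'
      refine ⟨N, m ≫ homOfLE hN, F.map (homOfLE hN) e + F.map (homOfLE hN') e', add_mem ?_ ?_, ?_⟩
      · rw [Functor.map_comp, CommRingCat.hom_comp, ← Ideal.map_map]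
        exact Ideal.mem_map_of_mem _ he
      · rw [Subsingleton.elim (m ≫ homOfLE hN) (m' ≫ homOfLE hN'), Functor.map_comp, CommRingCat.hom_comp,
          ← Ideal.map_map]
        exact Ideal.mem_map_of_mem _ he'
      · rw [map_add]
        exact congrArg₂ (· + ·) (congr($(c.w (homOfLE hN)).hom e)) (congr($(c.w (homOfLE hN')).hom e'))
    | smul r b _ hb =>
      obtain ⟨M, m, e, he, rfl⟩ := hb
      obtain ⟨M', z, hz⟩ := Types.jointly_surjective_of_isColimit hc' r
      obtain ⟨N, hN, hN'⟩ := exists_ge_ge M M'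
      refine ⟨N, m ≫ homOfLE hN, F.map (homOfLE hN') z * F.map (homOfLE hN) e, Ideal.mul_mem_left _ _ ?_, ?_⟩
      · rw [Functor.map_comp, CommRingCat.hom_comp, ← Ideal.map_map]
        exact Ideal.mem_map_of_mem _ he
      · rw [map_mul]
        exact congrArg₂ (· * ·) ((congr($(c.w (homOfLE hN')).hom z)).trans hz) (congr($(c.w (homOfLE hN)).hom e))
  obtain ⟨M, m, e, he, he1⟩ := key 1 (by rw [htop]; trivial)
  obtain ⟨l, a, b, hl⟩ := (Types.FilteredColimit.isColimit_eq_iff _ hc').1
    (show ((forget CommRingCat).mapCocone c).ι.app M e = ((forget CommRingCat).mapCocone c).ι.app M 1 from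
      he1.trans (map_one (c.ι.app M).hom).symm)
  refine ⟨l, m ≫ a, fun p => ?_⟩
  by_contra hp
  have hle := (hI (Spec.map (F.map (m ≫ a)) p)).1 hp
  refine (p : PrimeSpectrum (F.obj l)).isPrime.ne_top ((Ideal.eq_top_iff_one _).2 ?_)
  have hl' : F.map a e = 1 := by
    rw [Subsingleton.elim b a] at hl
    exact hl.trans (map_one (F.map a).hom)
  rw [← hl']
  refine (Ideal.map_le_iff_le_comap.2 hle) ?_
  rw [Functor.map_comp, CommRingCat.hom_comp, ← Ideal.map_map]
  exact Ideal.mem_map_of_mem _ he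

/-- Lifting morphisms out of the spectrum of a directed colimit to a stage. -/
theorem exists_stage_hom {X S S' : Scheme.{u}} (f : X ⟶ S) (i : S' ⟶ S)
    (h : ∀ (J : Type u) [Preorder J] [IsDirected J (· ≤ ·)] [Nonempty J] (Z : Jᵒᵖ ⥤ Over S'),
      (∀ j, IsAffine (Z.obj j).left) → Limits.PreservesColimit (Z ⋙ Over.map i).op (yoneda.obj (Over.mk f)))
    {R : CommRingCat.{u}} (r : Spec R ⟶ S')
    {J : Type u} [Preorder J] [IsDirected J (· ≤ ·)] [Nonempty J] (F : J ⥤ CommRingCat.{u})
    (α : (Functor.const J).obj R ⟶ F) (c : Cocone F) (hc : IsColimit c) (x₀ : Spec c.pt ⟶ X)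
    (hx : ∀ j, x₀ ≫ f = Spec.map (c.ι.app j) ≫ Spec.map (α.app j) ≫ r ≫ i) :
    ∃ (j : J) (φ : Spec (F.obj j) ⟶ X), φ ≫ f = Spec.map (α.app j) ≫ r ≫ i ∧
      Spec.map (c.ι.app j) ≫ φ = x₀ := by
  obtain ⟨j₀⟩ := ‹Nonempty J›
  have hnat : ∀ {a b : J} (m : a ⟶ b), Spec.map (F.map m) ≫ Spec.map (α.app a) = Spec.map (α.app b) :=
    fun m => by
      rw [← Spec.map_comp, ← α.naturality]
      simp
  let Z : Jᵒᵖ ⥤ Over S' :=
    { obj := fun j => Over.mk (Spec.map (α.app j.unop) ≫ r)
      map := fun {a b} m => Over.homMk (Spec.map (F.map m.unop))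
        ((Category.assoc _ _ _).symm.trans (congrArg (· ≫ r) (hnat m.unop)))
      map_id := fun j => by ext1; simp
      map_comp := fun a b => by ext1; simp }
  haveI := h J Z fun j => inferInstanceAs (IsAffine (Spec _))
  let C : Cone (Z ⋙ Over.map i) :=
    { pt := Over.mk (x₀ ≫ f)
      π :=
        { app := fun j => Over.homMk (Spec.map (c.ι.app j.unop)) (by
            show Spec.map (c.ι.app j.unop) ≫ (Spec.map (α.app j.unop) ≫ r) ≫ i = x₀ ≫ f
            rw [Category.assoc]
            exact (hx _).symm)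
          naturality := fun a b m => by
            ext1
            show 𝟙 _ ≫ Spec.map (c.ι.app b.unop) = Spec.map (c.ι.app a.unop) ≫ Spec.map (F.map m.unop)
            rw [Category.id_comp, ← Spec.map_comp, c.w] } }
  have hl : IsLimit (Scheme.Spec.mapCone c.op) := isLimitOfPreserves Scheme.Spec hc.op
  let toS : ∀ d : Cone (Z ⋙ Over.map i), Cone (F.op ⋙ Scheme.Spec) := fun d =>
    { pt := d.pt.left
      π := { app := fun j => (d.π.app j).left
             naturality := fun a b m => congrArg CommaMorphism.left (d.π.naturality m) } }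
  have hC : IsLimit C :=
    { lift := fun d => Over.homMk (hl.lift (toS d)) (by
        show hl.lift (toS d) ≫ x₀ ≫ f = d.pt.hom
        have h1 : hl.lift (toS d) ≫ Spec.map (c.ι.app j₀) = (d.π.app (op j₀)).left := hl.fac (toS d) (op j₀)
        rw [hx j₀, ← Category.assoc, h1]
        have h2 := Over.w (d.π.app (op j₀))
        refine Eq.trans ?_ h2
        show _ = (d.π.app (op j₀)).left ≫ (Spec.map (α.app j₀) ≫ r) ≫ i
        rw [Category.assoc])
      fac := fun d j => by
        ext1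
        exact hl.fac (toS d) j
      uniq := fun d m hm => by
        ext1
        exact hl.uniq (toS d) m.left fun j => congrArg CommaMorphism.left (hm j) }
  let x : Over.mk (x₀ ≫ f) ⟶ Over.mk f := Over.homMk x₀ rfl
  obtain ⟨jj, h₀, hh₀⟩ := Types.jointly_surjective_of_isColimit
    (isColimitOfPreserves (yoneda.obj (Over.mk f)) hC.op) x
  refine ⟨jj.unop.unop, h₀.left, ?_, congrArg CommaMorphism.left hh₀⟩
  exact (Over.w h₀).trans (Category.assoc _ _ _)

/-- Morphisms of affine opens lift along directed colimits. -/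
theorem lifts_appLE {X S : Scheme.{u}} (f : X ⟶ S)
    (h : ∀ (U : S.Opens), IsAffineOpen U →
      ∀ (J : Type u) [Preorder J] [IsDirected J (· ≤ ·)] [Nonempty J] (Z : Jᵒᵖ ⥤ Over (U : Scheme.{u})),
      (∀ j, IsAffine (Z.obj j).left) →
      Limits.PreservesColimit (Z ⋙ Over.map U.ι).op (yoneda.obj (Over.mk f)))
    {U : S.Opens} (hU : IsAffineOpen U) {V : X.Opens} (hV : IsAffineOpen V) (e : V ≤ f ⁻¹ᵁ U) :
    Lifts (f.appLE U V e) := by
  intro J _ _ _ F α c hc g hg
  have hi : hU.isoSpec.inv ≫ U.ι = hU.fromSpec := IsAffineOpen.isoSpec_inv_ι hU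
  have hAE : Spec.map (f.appLE U V e) ≫ hU.fromSpec = hV.fromSpec ≫ f :=
    IsAffineOpen.SpecMap_appLE_fromSpec f hU hV e
  obtain ⟨j, φ, hφ, hφg⟩ := exists_stage_hom f U.ι (h U hU) hU.isoSpec.inv F α c hc (Spec.map g ≫ hV.fromSpec)
    fun j => by
      rw [Category.assoc, ← hAE, hi, ← Category.assoc, ← Category.assoc]
      exact congrArg (· ≫ hU.fromSpec)
        (((Spec.map_comp _ _).symm.trans (congrArg Spec.map (hg j))).trans (Spec.map_comp _ _))
  rw [hi] at hφ
  obtain ⟨k, a, hk⟩ := exists_stage_range_subset hc j (φ ⁻¹ᵁ V) fun p => by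
    show (Spec.map (c.ι.app j) ≫ φ) p ∈ V
    rw [hφg, Scheme.Hom.comp_apply]
    exact hV.range_fromSpec.le ⟨_, rfl⟩
  have hrange : Set.range (Spec.map (F.map a) ≫ φ) ⊆ Set.range hV.fromSpec := by
    rw [hV.range_fromSpec]
    rintro _ ⟨p, rfl⟩
    exact hk p
  obtain ⟨g', hg'⟩ := Spec.map_surjective (IsOpenImmersion.lift hV.fromSpec (Spec.map (F.map a) ≫ φ) hrange)
  have hfac : Spec.map g' ≫ hV.fromSpec = Spec.map (F.map a) ≫ φ := by
    rw [hg', IsOpenImmersion.lift_fac]
  refine ⟨k, g', Spec.map_injective ?_, Spec.map_injective ?_⟩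
  · rw [← cancel_mono hU.fromSpec, Spec.map_comp, Category.assoc, hAE, ← Category.assoc, hfac, Category.assoc,
      hφ, ← Category.assoc]
    congr 1
    exact (Spec.map_comp _ _).symm.trans (congrArg Spec.map
      ((α.naturality a).symm.trans (Category.id_comp _)))
  · rw [← cancel_mono hV.fromSpec, Spec.map_comp, Category.assoc, hfac, ← Category.assoc, ← Spec.map_comp,
      c.w, hφg]

end Groth.Agent.LfpCrit
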